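import Groth.Agent.GrFlat5.GrBaseChange
import Groth.Agent.FlatSyz5.Resolution

/-!
# Pieces of a Noetherian base over which all `M / Jᵏ M` are projective
-/

set_option backward.isDefEq.respectTransparency false

universe u

open TensorProduct

namespace Groth.Agent.GradedStrat

variable {A B M : Type u} [CommRing A] [IsNoetherianRing A] [CommRing B] [Algebra A B] [Algebra.FiniteType A B]
  [AddCommGroup M] [Module B M] [Module A M] [IsScalarTower A B M] [Module.Finite B M]

theorem exists_piece (J : Ideal B) (p : Ideal A) [p.IsPrime] : ∃ f ∉ p, ∀ (T : Type u) [CommRing T] [Algebra A T],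
    (∀ x ∈ p, algebraMap A T x = 0) → IsUnit (algebraMap A T f) →
      ∀ k, Module.Projective T (T ⊗[A] (M ⧸ (J ^ k • ⊤ : Submodule B M))) := by
  let B' := B ⧸ p.map (algebraMap A B)
  let : Algebra (A ⧸ p) B' := (Ideal.quotientMap (p.map (algebraMap A B)) (algebraMap A B) Ideal.le_comap_map).toAlgebra
  have : IsScalarTower A (A ⧸ p) B' := .of_algebraMap_eq fun _ => rfl
  have : Algebra.FiniteType A B' := Algebra.FiniteType.trans (S := B) inferInstance inferInstance
  have : Algebra.FiniteType (A ⧸ p) B' := Algebra.FiniteType.of_restrictScalars_finiteType A (A ⧸ p) B'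
  let fM : M →ₗ[B] B' ⊗[B] M := TensorProduct.mk B B' M 1
  have hbc : IsBaseChange B' fM := TensorProduct.isBaseChange B M B'
  let : Module (A ⧸ p) (B' ⊗[B] M) := Module.compHom _ (algebraMap (A ⧸ p) B')
  have : IsScalarTower (A ⧸ p) B' (B' ⊗[B] M) := .of_algebraMap_smul fun _ _ => rfl
  obtain ⟨fb, hfb, hproj⟩ := GrFlat5.exists_projective_quot (R := A ⧸ p) (B := B') (M := B' ⊗[B] M)
    (J.map (algebraMap B B'))
  obtain ⟨f, rfl⟩ := Ideal.Quotient.mk_surjective fb
  refine ⟨f, fun h => hfb (Ideal.Quotient.eq_zero_iff_mem.2 h), fun T _ _ hp hu k => ?_⟩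
  let : Algebra (A ⧸ p) T := (Ideal.Quotient.lift p (algebraMap A T) hp).toAlgebra
  have : IsScalarTower A (A ⧸ p) T := .of_algebraMap_eq fun _ => rfl
  have := hproj T hu k
  let Q := M ⧸ (J ^ k • ⊤ : Submodule B M)
  let e₁ : B' ⊗[B] Q ≃ₗ[B'] (B' ⊗[B] M) ⧸ ((J.map (algebraMap B B')) ^ k • ⊤ : Submodule B' (B' ⊗[B] M)) :=
    LinearEquiv.ofBijective _ (GrFlat5.bijective_quotMap (B' := B') fM J hbc k)
  have hsub : ((p.map (algebraMap A B)) • (⊤ : Submodule B Q)).restrictScalars A = p • (⊤ : Submodule A Q) :=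
    Submodule.restrictScalars_map_smul_eq p ⊤
  let e₂ : ((A ⧸ p) ⊗[A] Q) ≃ₗ[A] B' ⊗[B] Q :=
    (TensorProduct.quotTensorEquivQuotSMul Q p).trans
      (((Submodule.quotEquivOfEq _ _ hsub.symm).trans (Submodule.Quotient.restrictScalarsEquiv A _)).trans
        ((TensorProduct.quotTensorEquivQuotSMul Q (p.map (algebraMap A B))).symm.restrictScalars A))
  let e : (A ⧸ p) ⊗[A] Q ≃ₗ[A ⧸ p]
      (B' ⊗[B] M) ⧸ ((J.map (algebraMap B B')) ^ k • ⊤ : Submodule B' (B' ⊗[B] M)) :=
    { toFun := fun z => e₁ (e₂ z)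
      map_add' := fun a b => by rw [map_add, map_add]
      map_smul' := fun c z => by
        obtain ⟨c, rfl⟩ := Ideal.Quotient.mk_surjective c
        have h1 : (Ideal.Quotient.mk p c) • z = c • z := algebraMap_smul _ _ _
        rw [h1, map_smul, RingHom.id_apply]
        show e₁ (c • e₂ z) = algebraMap (A ⧸ p) B' (Ideal.Quotient.mk p c) • e₁ (e₂ z)
        rw [← IsScalarTower.algebraMap_smul B c (e₂ z), ← IsScalarTower.algebraMap_smul B' (algebraMap A B c) (e₂ z), map_smul e₁]
        rfl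
      invFun := fun z => e₂.symm (e₁.symm z)
      left_inv := fun z => by simp
      right_inv := fun z => by simp }
  exact Module.Projective.of_equiv ((AlgebraTensorModule.cancelBaseChange A (A ⧸ p) T T Q).symm.trans
    (e.baseChange (A ⧸ p) T _ _)).symm

/-- Finitely many pieces. -/
theorem exists_pieces (J : Ideal B) (I : Ideal A) :
    ∃ S : Finset (Ideal A × A), (∀ x ∈ S, ∀ (T : Type u) [CommRing T] [Algebra A T],
      (∀ z ∈ x.1, algebraMap A T z = 0) → IsUnit (algebraMap A T x.2) →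
        ∀ k, Module.Projective T (T ⊗[A] (M ⧸ (J ^ k • ⊤ : Submodule B M)))) ∧
      ∀ q : Ideal A, q.IsPrime → I ≤ q → ∃ x ∈ S, x.1 ≤ q ∧ x.2 ∉ q := by
  classical
  induction I using WellFoundedGT.induction with
  | _ I ih =>
    by_cases hI : I = ⊤
    · exact ⟨∅, by simp, fun q hq h => absurd (top_le_iff.1 (hI ▸ h)) hq.ne_top⟩
    by_cases hp : I.IsPrime
    · obtain ⟨f, hf, hg⟩ := exists_piece (M := M) J I
      obtain ⟨S, hS, hS'⟩ := ih (I ⊔ Ideal.span {f})
        (lt_of_le_of_ne le_sup_left fun h => hf (h ▸ Ideal.mem_sup_right (Ideal.mem_span_singleton_self f)))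
      refine ⟨insert (I, f) S, fun x hx => ?_, fun q hq hle => ?_⟩
      · rcases Finset.mem_insert.1 hx with rfl | hx
        · exact hg
        · exact hS x hx
      by_cases hfq : f ∈ q
      · obtain ⟨x, hx, h⟩ := hS' q hq (sup_le hle ((Ideal.span_singleton_le_iff_mem _).2 hfq))
        exact ⟨x, Finset.mem_insert_of_mem hx, h⟩
      · exact ⟨(I, f), Finset.mem_insert_self _ _, hle, hfq⟩
    · obtain ⟨x, hx, y, hy, hxy⟩ := (Ideal.not_isPrime_iff.1 hp).resolve_left hI
      have hlt : ∀ z ∉ I, I < I ⊔ Ideal.span {z} := fun z hz =>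
        lt_of_le_of_ne le_sup_left fun h => hz (h ▸ Ideal.mem_sup_right (Ideal.mem_span_singleton_self z))
      obtain ⟨S, hS, hS'⟩ := ih _ (hlt x hx)
      obtain ⟨T, hT, hT'⟩ := ih _ (hlt y hy)
      refine ⟨S ∪ T, fun z hz => (Finset.mem_union.1 hz).elim (hS z) (hT z), fun q hq hle => ?_⟩
      rcases hq.mem_or_mem (hle hxy) with h | h
      · obtain ⟨z, hz, h'⟩ := hS' q hq (sup_le hle ((Ideal.span_singleton_le_iff_mem _).2 h))
        exact ⟨z, Finset.mem_union_left _ hz, h'⟩
      · obtain ⟨z, hz, h'⟩ := hT' q hq (sup_le hle ((Ideal.span_singleton_le_iff_mem _).2 h))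
        exact ⟨z, Finset.mem_union_right _ hz, h'⟩

omit [IsNoetherianRing A] in
/-- The image of `Jⁿ M` modulo that of `Jⁿ⁺¹ M` after a base change making the quotients projective is flat. -/
theorem flat_gr {T : Type u} [CommRing T] [Algebra A T] {X : Type u} [AddCommGroup X] [Module A X]
    (R₁ R₀ : Submodule A X) (h : R₁ ≤ R₀) [Module.Projective T (T ⊗[A] (X ⧸ R₁))] [Module.Projective T (T ⊗[A] (X ⧸ R₀))] :
    Module.Flat T ↥(Submodule.map (LinearMap.range (LinearMap.baseChange T R₁.subtype)).mkQ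
      (LinearMap.range (LinearMap.baseChange T R₀.subtype))) := by
  have hex : ∀ R : Submodule A X, LinearMap.range (R.subtype.baseChange T) = LinearMap.ker (R.mkQ.baseChange T) :=
    fun R => Submodule.ext fun z => (lTensor_exact T (LinearMap.exact_subtype_mkQ R) R.mkQ_surjective z).symm
  let N₁ := LinearMap.range (LinearMap.baseChange T R₁.subtype)
  let N₀ := LinearMap.range (LinearMap.baseChange T R₀.subtype)
  have hsur : ∀ R : Submodule A X, Function.Surjective (R.mkQ.baseChange T) := fun R =>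
    LinearMap.lTensor_surjective T R.mkQ_surjective
  let e₁ : ((T ⊗[A] X) ⧸ N₁) ≃ₗ[T] T ⊗[A] (X ⧸ R₁) :=
    (Submodule.quotEquivOfEq _ _ (hex R₁)).trans ((R₁.mkQ.baseChange T).quotKerEquivOfSurjective (hsur R₁))
  let e₀ : ((T ⊗[A] X) ⧸ N₀) ≃ₗ[T] T ⊗[A] (X ⧸ R₀) :=
    (Submodule.quotEquivOfEq _ _ (hex R₀)).trans ((R₀.mkQ.baseChange T).quotKerEquivOfSurjective (hsur R₀))
  have : Module.Flat T ((T ⊗[A] X) ⧸ N₁) := Module.Flat.of_linearEquiv e₁
  have : Module.Flat T ((T ⊗[A] X) ⧸ N₀) := Module.Flat.of_linearEquiv e₀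
  have hle : N₁ ≤ N₀ := by
    show LinearMap.range _ ≤ LinearMap.range _
    rw [show R₁.subtype = R₀.subtype ∘ₗ Submodule.inclusion h from rfl, LinearMap.baseChange_comp]
    exact LinearMap.range_comp_le_range _ _
  have hk : LinearMap.ker (Submodule.factor hle) = Submodule.map N₁.mkQ N₀ := by
    rw [Submodule.factor, Submodule.ker_mapQ, Submodule.comap_id]
  have := FlatSyz5.flat_ker T (Submodule.factor hle) (Submodule.factor_surjective hle)
  exact Module.Flat.of_linearEquiv (LinearEquiv.ofEq _ _ hk.symm)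

end Groth.Agent.GradedStrat
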